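import Cfsg.Agent.H732.OZ.LAbs
import Cfsg.Agent.H732.Bit.GLBit

/-!
# `GL_6(2)` and `GL_7(2)`: elements
-/

set_option autoImplicit false
set_option maxRecDepth 100000

namespace Cfsg.Agent.H732.OZ

open Cfsg Cfsg.Agent.Characters Cfsg.Agent.H686.CharKit Cfsg.Agent.H732.VZ Cfsg.Agent.H732.Bit
open Cfsg.Agent.H730.OZ (pSet OneZero)
open Matrix

/-- the matrices of `GL_n(2)` -/
def co (n : ℕ) : GL (Fin n) (ZMod 2) →* Matrix (Fin n) (Fin n) (ZMod 2) := Units.coeHom _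

theorem co_inj (n : ℕ) : Function.Injective (co n) := Units.val_injective

namespace L6

abbrev G := GL (Fin 6) (ZMod 2)
abbrev e : Fin 6 ≃ Fin 6 := Equiv.refl _

def s : G := gl e [2, 4, 8, 16, 32, 3] [33, 1, 2, 4, 8, 16] (by decide)
def g9 : G := gl e [6, 12, 24, 48, 35, 5] [31, 62, 63, 61, 57, 49] (by decide)
def g7 : G := gl e [2, 4, 3, 40, 8, 16] [5, 1, 2, 16, 32, 24] (by decide)
def k7 : G := gl e [24, 48, 35, 5, 10, 20] [23, 46, 31, 62, 63, 61] (by decide)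
def z : G := gl e [2, 4, 8, 16, 5, 32] [18, 1, 2, 4, 8, 32] (by decide)
def z' : G := gl e [18, 1, 2, 4, 8, 32] [2, 4, 8, 16, 5, 32] (by decide)
def h : G := gl e [2, 4, 8, 3, 16, 32] [9, 1, 2, 4, 16, 32] (by decide)
def u : G := gl e [3, 6, 12, 24, 48, 32] [63, 62, 60, 56, 48, 32] (by decide)

theorem s_ord : orderOf s = 63 := orderOf_gl e _ (by norm_num) (ms := [9, 21]) (by decide)
theorem g9_eq : g9 = s ^ 7 := by
  apply Units.ext
  rw [s, gl_pow, g9, gl_val]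
  congr 1
theorem g7_ord : orderOf g7 = 7 := orderOf_gl e _ (by norm_num) (ms := [1]) (by decide)
theorem k7_ord : orderOf k7 = 7 := orderOf_gl e _ (by norm_num) (ms := [1]) (by decide)
theorem z_ord : orderOf z = 31 := orderOf_gl e _ (by norm_num) (ms := [1]) (by decide)
theorem z'_ord : orderOf z' = 31 := orderOf_gl e _ (by norm_num) (ms := [1]) (by decide)
theorem h_ord : orderOf h = 15 := orderOf_gl e _ (by norm_num) (ms := [3, 5]) (by decide)
theorem u_ord : orderOf u = 8 := orderOf_gl e _ (by norm_num) (ms := [4]) (by decide)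
theorem g9_ord : orderOf g9 = 9 := orderOf_gl e _ (by norm_num) (ms := [3]) (by decide)

theorem g7_k7 : ¬ IsConj k7 g7 :=
  not_isConj_of_poly e (co 6) (a := [24, 48, 35, 5, 10, 20]) (b := [2, 4, 3, 40, 8, 16]) rfl rfl rfl rfl
    [0, 2, 3] (by decide) (by decide) (by decide) (by decide)

theorem z_z' : ¬ IsConj z z' :=
  not_isConj_of_poly e (co 6) (a := [2, 4, 8, 16, 5, 32]) (b := [18, 1, 2, 4, 8, 32]) rfl rfl rfl rfl
    [6, 5, 3, 2, 1, 0] (by decide) (by decide) (by decide) (by decide)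

theorem g9_rat : RatEl g9 := by
  refine ratEl_of (t := 2) (isConj_gl_pow e _ (p := [57, 33, 2, 8, 32, 6]) (p' := [18, 4, 36, 8, 11, 16])
    (by decide) (by decide)) ?_
  rw [g9_ord]
  decide

theorem g7_rat : RatEl g7 := by
  refine ratEl_of (t := 3) (isConj_gl_pow e _ (p := [8, 48, 16, 7, 4, 5]) (p' := [48, 40, 16, 1, 4, 6])
    (by decide) (by decide)) ?_
  rw [g7_ord]
  decide

theorem u_rat : RatEl u := by
  refine ratEl_of_two (t := 3) (s := 5) (isConj_gl_pow e _ (p := [57, 30, 52, 24, 16, 32])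
    (p' := [41, 62, 52, 24, 16, 32]) (by decide) (by decide))
    (isConj_gl_pow e _ (p := [57, 2, 36, 8, 16, 32]) (p' := [57, 2, 36, 8, 16, 32]) (by decide) (by decide)) ?_
  rw [u_ord]
  decide

theorem g9_card : Nat.card (Subgroup.centralizer ({g9} : Set G)) ≤ 63 :=
  (card_cyc_le e (co 6) (co_inj 6) (a := [6, 12, 24, 48, 35, 5]) (v := 1)
    (cert := [[(0, 0)], [(0, 0), (0, 2), (0, 4), (0, 5)], [(0, 0), (0, 1), (0, 2), (0, 4), (0, 5)],
      [(0, 2), (0, 4)], [(0, 0), (0, 1), (0, 4), (0, 5)], [(0, 0), (0, 1), (0, 3), (0, 4)]])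
    rfl rfl (by decide) [[0]] [[1, 2, 4, 8, 16, 32]] (by decide) (by decide)).trans (by decide)

theorem g7_card : Nat.card (Subgroup.centralizer ({g7} : Set G)) ≤ 63 :=
  (card_cyc_le e (co 6) (co_inj 6) (a := [2, 4, 3, 40, 8, 16]) (v := 9)
    (cert := [[(0, 0), (0, 1), (0, 2), (0, 4)], [(0, 1), (0, 2), (0, 3), (0, 5)], [(0, 0), (0, 1), (0, 5)],
      [(0, 1), (0, 2), (0, 4)], [(0, 0), (0, 1), (0, 3)], [(0, 1), (0, 3), (0, 4), (0, 5)]])
    rfl rfl (by decide) [[0]] [[1, 2, 4, 8, 16, 32]] (by decide) (by decide)).trans (by decide)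

theorem u_card : Nat.card (Subgroup.centralizer ({u} : Set G)) ≤ 32 :=
  (card_cyc_le e (co 6) (co_inj 6) (a := [3, 6, 12, 24, 48, 32]) (v := 1)
    (cert := [[(0, 0)], [(0, 0), (0, 1)], [(0, 0), (0, 2)], [(0, 0), (0, 1), (0, 2), (0, 3)],
      [(0, 0), (0, 4)], [(0, 0), (0, 1), (0, 4), (0, 5)]])
    rfl rfl (by decide) [[0, 1, 4, 5]] [[32, 0, 0, 0, 0, 0]] (by decide) (by decide)).trans (by decide)

end L6

namespace L7

abbrev G := GL (Fin 7) (ZMod 2)
abbrev e : Fin 7 ≃ Fin 7 := Equiv.refl _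

def s : G := gl e [2, 4, 8, 16, 32, 3, 64] [33, 1, 2, 4, 8, 16, 64] (by decide)
def g9 : G := gl e [6, 12, 24, 48, 35, 5, 64] [31, 62, 63, 61, 57, 49, 64] (by decide)
def g7 : G := gl e [2, 4, 3, 40, 8, 16, 64] [5, 1, 2, 16, 32, 24, 64] (by decide)
def k7 : G := gl e [24, 48, 35, 5, 10, 20, 64] [23, 46, 31, 62, 63, 61, 64] (by decide)
def z : G := gl e [2, 4, 8, 16, 32, 64, 3] [65, 1, 2, 4, 8, 16, 32] (by decide)
def z' : G := gl e [65, 1, 2, 4, 8, 16, 32] [2, 4, 8, 16, 32, 64, 3] (by decide)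
def w : G := gl e [2, 4, 8, 16, 5, 64, 96] [18, 1, 2, 4, 8, 96, 32] (by decide)
def h : G := gl e [2, 4, 8, 3, 16, 32, 64] [9, 1, 2, 4, 16, 32, 64] (by decide)
def u : G := gl e [3, 6, 12, 24, 48, 96, 64] [127, 126, 124, 120, 112, 96, 64] (by decide)

theorem s_ord : orderOf s = 63 := orderOf_gl e _ (by norm_num) (ms := [9, 21]) (by decide)
theorem g9_eq : g9 = s ^ 7 := by
  apply Units.ext
  rw [s, gl_pow, g9, gl_val]
  congr 1
theorem g7_ord : orderOf g7 = 7 := orderOf_gl e _ (by norm_num) (ms := [1]) (by decide)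
theorem k7_ord : orderOf k7 = 7 := orderOf_gl e _ (by norm_num) (ms := [1]) (by decide)
theorem z_ord : orderOf z = 127 := orderOf_gl e _ (by norm_num) (ms := [1]) (by decide)
theorem z'_ord : orderOf z' = 127 := orderOf_gl e _ (by norm_num) (ms := [1]) (by decide)
theorem w_ord : orderOf w = 93 := orderOf_gl e _ (by norm_num) (ms := [3, 31]) (by decide)
theorem h_ord : orderOf h = 15 := orderOf_gl e _ (by norm_num) (ms := [3, 5]) (by decide)
theorem u_ord : orderOf u = 8 := orderOf_gl e _ (by norm_num) (ms := [4]) (by decide)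
theorem g9_ord : orderOf g9 = 9 := orderOf_gl e _ (by norm_num) (ms := [3]) (by decide)

theorem g7_k7 : ¬ IsConj k7 g7 :=
  not_isConj_of_poly e (co 7) (a := [24, 48, 35, 5, 10, 20, 64]) (b := [2, 4, 3, 40, 8, 16, 64]) rfl rfl
    rfl rfl [0, 1, 2, 4] (by decide) (by decide) (by decide) (by decide)

theorem z_z' : ¬ IsConj z z' :=
  not_isConj_of_poly e (co 7) (a := [2, 4, 8, 16, 32, 64, 3]) (b := [65, 1, 2, 4, 8, 16, 32]) rfl rfl
    rfl rfl [7, 1, 0] (by decide) (by decide) (by decide) (by decide)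

theorem g9_rat : RatEl g9 := by
  refine ratEl_of (t := 2) (isConj_gl_pow e _ (p := [22, 27, 47, 58, 45, 50, 64])
    (p' := [25, 20, 50, 40, 39, 19, 64]) (by decide) (by decide)) ?_
  rw [g9_ord]
  decide

theorem g7_rat : RatEl g7 := by
  refine ratEl_of (t := 3) (isConj_gl_pow e _ (p := [48, 16, 56, 2, 7, 4, 64])
    (p' := [56, 8, 32, 5, 2, 3, 64]) (by decide) (by decide)) ?_
  rw [g7_ord]
  decide

theorem u_rat : RatEl u := by
  refine ratEl_of_two (t := 3) (s := 5) (isConj_gl_pow e _ (p := [57, 94, 52, 24, 16, 96, 64])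
    (p' := [105, 62, 116, 24, 16, 96, 64]) (by decide) (by decide))
    (isConj_gl_pow e _ (p := [57, 66, 100, 8, 16, 32, 64]) (p' := [57, 66, 100, 8, 16, 32, 64])
      (by decide) (by decide)) ?_
  rw [u_ord]
  decide

theorem g9_card : Nat.card (Subgroup.centralizer ({g9} : Set G)) ≤ 63 :=
  (card_cyc_le e (co 7) (co_inj 7) (a := [6, 12, 24, 48, 35, 5, 64]) (v := 65)
    (cert := [[(0, 3), (0, 6)], [(0, 0), (0, 2), (0, 4), (0, 5)],
      [(0, 1), (0, 2), (0, 3), (0, 4), (0, 5), (0, 6)], [(0, 2), (0, 4)], [(0, 0), (0, 1), (0, 4), (0, 5)],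
      [(0, 0), (0, 1), (0, 3), (0, 4)], [(0, 0), (0, 3), (0, 6)]])
    rfl rfl (by decide) [[6, 3, 0], [1, 0]] [[0, 0, 0, 0, 0, 0, 64], [7, 14, 28, 56, 51, 37, 0]]
    (by decide) (by decide)).trans (by decide)

theorem g7_card : Nat.card (Subgroup.centralizer ({g7} : Set G)) ≤ 127 :=
  (card_cyc_le e (co 7) (co_inj 7) (a := [2, 4, 3, 40, 8, 16, 64]) (v := 73)
    (cert := [[(0, 0), (0, 1), (0, 2), (0, 4)], [(0, 1), (0, 2), (0, 3), (0, 5)],
      [(0, 2), (0, 3), (0, 4), (0, 6)], [(0, 0), (0, 3), (0, 5), (0, 6)], [(0, 2), (0, 4), (0, 5), (0, 6)],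
      [(0, 1), (0, 3), (0, 4), (0, 5)], [(0, 0), (0, 1), (0, 2), (0, 3), (0, 4), (0, 5), (0, 6)]])
    rfl rfl (by decide) [[0]] [[1, 2, 4, 8, 16, 32, 64]] (by decide) (by decide)).trans (by decide)

theorem u_card : Nat.card (Subgroup.centralizer ({u} : Set G)) ≤ 64 :=
  (card_cyc_le e (co 7) (co_inj 7) (a := [3, 6, 12, 24, 48, 96, 64]) (v := 1)
    (cert := [[(0, 0)], [(0, 0), (0, 1)], [(0, 0), (0, 2)], [(0, 0), (0, 1), (0, 2), (0, 3)],
      [(0, 0), (0, 4)], [(0, 0), (0, 1), (0, 4), (0, 5)], [(0, 0), (0, 2), (0, 4), (0, 6)]])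
    rfl rfl (by decide) [[0, 2, 4, 6]] [[64, 0, 0, 0, 0, 0, 0]] (by decide) (by decide)).trans (by decide)

end L7

end Cfsg.Agent.H732.OZ
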